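import Mathlib
import Cfsg.Agent.H634.HypS
import Cfsg.Agent.H634.Cols
import Cfsg.Agent.H634.Fus
import Cfsg.Agent.S4646
import Cfsg.Agent.H656.FrobBlock
import Cfsg.Agent.H656.OverPrincipal
import Cfsg.Agent.Characters.Clifford
import Cfsg.Agent.FastGrp
import Cfsg.Agent.Prune
set_option linter.all false

section
prune_inst 0x7f00000000000000000000000000000000000000000000000000000000000000000000000000000000000000000000000000000000000000000000000000000000000000000000000000000000000000003fffffffffffffffffffffffffffbeffbdffffffff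

-- part: H634/TwoA
section
set_option linter.all false
open scoped Cfsg.Agent.FastGrp

/-!
# `k(B₀) = 4`, `l(B₀) = 2`: the dichotomy, and the case of two classes
-/

set_option autoImplicit false

open Cfsg

namespace Cfsg.Agent.H634.TwoA

open Cfsg.Agent.H634.ZJ Cfsg.Agent.H634.Fus Cfsg.Agent.H634.HypS Cfsg.Agent.H634.Cols
open scoped ComplexConjugate

variable {G : Type*} [Group G] [Finite G] {p : ℕ} [hp : Fact p.Prime] {M : Ideal AlgInt}

/-- At most two classes of nontrivial `p`-elements. -/
def TwoClass (p : ℕ) (G : Type*) [Group G] : Prop :=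
  ∀ x y z : G, PEl p x → x ≠ 1 → PEl p y → y ≠ 1 → PEl p z → z ≠ 1 →
    IsConj x y ∨ IsConj y z ∨ IsConj x z

/-- Some terms of Brauer's formula. -/
theorem sum_rank_le (hM : IsPModular p M) (S : Finset G) (hS : ∀ x ∈ S, ∃ k : ℕ, orderOf x = p ^ k)
    (hinj : ∀ x ∈ S, ∀ y ∈ S, IsConj x y → x = y) :
    ∑ x ∈ S, blockRank p (principalBlock M ↥(Subgroup.centralizer ({x} : Set G))) ≤
      Nat.card (principalBlock M G) := by
  classical
  obtain ⟨X, hSX, hX, hXrep⟩ := exists_reps S hS hinj
  rw [card_principal_eq hM X hX hXrep]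
  exact Finset.sum_le_sum_of_subset hSX

theorem rank_one_eq (hM : IsPModular p M) :
    blockRank p (principalBlock M ↥(Subgroup.centralizer ({(1 : G)} : Set G))) =
      blockRank p (principalBlock M G) := by
  rw [← finrank_secMap_principal hM (p := p) (x := (1 : G)) ⟨0, by simp⟩, finrank_secMap_one]

omit [Finite G] hp in
theorem one_pel : PEl p (1 : G) := ⟨0, by simp⟩

/-- **The dichotomy.** -/
theorem dichotomy (hM : IsPModular p M) (hk : Nat.card (principalBlock M G) = 4)
    (hl : blockRank p (principalBlock M G) = 2) :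
    (OneClass p G ∧ ∀ x : G, PEl p x → x ≠ 1 →
      blockRank p (principalBlock M ↥(Subgroup.centralizer ({x} : Set G))) = 2) ∨
    (NilCent p G ∧ TwoClass p G ∧
      ∃ x y : G, PEl p x ∧ x ≠ 1 ∧ PEl p y ∧ y ≠ 1 ∧ ¬ IsConj x y) := by
  classical
  by_cases hC : OneClass p G
  · left
    refine ⟨hC, fun x hx hx1 => ?_⟩
    obtain ⟨X, hSX, hX, hXrep⟩ := exists_reps (p := p) ({1, x} : Finset G)
      (by
        intro z hz
        simp only [Finset.mem_insert, Finset.mem_singleton] at hz
        rcases hz with rfl | rfl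
        · exact one_pel
        · exact hx)
      (by
        intro z hz w hw hc
        simp only [Finset.mem_insert, Finset.mem_singleton] at hz hw
        rcases hz with rfl | rfl <;> rcases hw with rfl | rfl
        · rfl
        · exact (hx1 (one_conj hc)).elim
        · exact (hx1 (one_conj hc.symm)).elim
        · rfl)
    have hXe : X = {1, x} := by
      apply Finset.Subset.antisymm _ hSX
      intro z hz
      obtain ⟨w, -, hw⟩ := hXrep z (hX z hz)
      have h1 := hw z ⟨hz, IsConj.refl _⟩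
      by_cases hz1 : z = 1
      · rw [hz1]; exact Finset.mem_insert_self _ _
      · have h2 := hw x ⟨hSX (by simp), hC z x (hX z hz) hz1 hx hx1⟩
        rw [h1, ← h2]
        simp
    have h1 := card_principal_eq hM X hX hXrep
    rw [hXe, Finset.sum_pair (Ne.symm hx1), rank_one_eq hM, hk, hl] at h1
    omega
  · right
    unfold OneClass at hC
    push Not at hC
    obtain ⟨x, y, hx, hx1, hy, hy1, hxy⟩ := hC
    have hrank : ∀ z : G, PEl p z →
        0 < blockRank p (principalBlock M ↥(Subgroup.centralizer ({z} : Set G))) := fun z _ =>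
      blockRank_pos (G := ↥(Subgroup.centralizer ({z} : Set G))) hM
    have hT : TwoClass p G := by
      intro a b c ha ha1 hb hb1 hc hc1
      by_contra hcon
      push Not at hcon
      obtain ⟨h1, h2, h3⟩ := hcon
      have h4 := sum_rank_le hM ({1, a, b, c} : Finset G)
        (by
          intro z hz
          simp only [Finset.mem_insert, Finset.mem_singleton] at hz
          rcases hz with rfl | rfl | rfl | rfl
          · exact one_pel
          · exact ha
          · exact hb
          · exact hc)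
        (by
          intro z hz w hw hcj
          simp only [Finset.mem_insert, Finset.mem_singleton] at hz hw
          rcases hz with rfl | rfl | rfl | rfl <;> rcases hw with rfl | rfl | rfl | rfl <;>
            first
              | rfl
              | exact (ha1 (one_conj hcj)).elim
              | exact (hb1 (one_conj hcj)).elim
              | exact (hc1 (one_conj hcj)).elim
              | exact (ha1 (one_conj hcj.symm)).elim
              | exact (hb1 (one_conj hcj.symm)).elim
              | exact (hc1 (one_conj hcj.symm)).elim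
              | exact (h1 hcj).elim
              | exact (h2 hcj).elim
              | exact (h3 hcj).elim
              | exact (h1 hcj.symm).elim
              | exact (h2 hcj.symm).elim
              | exact (h3 hcj.symm).elim)
      have hab : a ≠ b := fun h => h1 (h ▸ IsConj.refl _)
      have hbc : b ≠ c := fun h => h2 (h ▸ IsConj.refl _)
      have hac : a ≠ c := fun h => h3 (h ▸ IsConj.refl _)
      rw [Finset.sum_insert (by
          simp only [Finset.mem_insert, Finset.mem_singleton, not_or]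
          exact ⟨Ne.symm ha1, Ne.symm hb1, Ne.symm hc1⟩), Finset.sum_insert (by
          simp only [Finset.mem_insert, Finset.mem_singleton, not_or]
          exact ⟨hab, hac⟩), Finset.sum_pair hbc, rank_one_eq hM, hk, hl] at h4
      have := hrank a ha
      have := hrank b hb
      have := hrank c hc
      omega
    refine ⟨?_, hT, x, y, hx, hx1, hy, hy1, hxy⟩
    have hkey : ∀ a b : G, PEl p a → a ≠ 1 → PEl p b → b ≠ 1 → ¬ IsConj a b →
        HasNormalPComplement p ↥(Subgroup.centralizer ({a} : Set G)) := by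
      intro a b ha ha1 hb hb1 hab
      have h1 := rank_add_rank_add_rank_le hM ha ha1 hb hb1 hab
      have h2 := hrank a ha
      have h3 := hrank b hb
      have : Fintype ↥(Subgroup.centralizer ({a} : Set G)) := Fintype.ofFinite _
      exact S4646.compl_of_rank_one hM (by omega)
    intro z hz hz1
    by_cases hzx : IsConj z x
    · exact hkey z y hz hz1 hy hy1 fun h => hxy (hzx.symm.trans h)
    · exact hkey z x hz hz1 hx hx1 hzx

section free

variable (hN : NilCent p G) (P : Sylow p G) (hcomm : ∀ a ∈ P, ∀ b ∈ P, a * b = b * a)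

include hN hcomm

/-- An element of `N(P)` centralizing a nontrivial element of `P` centralizes `P`. -/
theorem reg {g : G} (hg : g ∈ Subgroup.normalizer ((P : Subgroup G) : Set G)) {x : G}
    (hx : x ∈ P) (hx1 : x ≠ 1) (hgx : g * x = x * g) {y : G} (hy : y ∈ P) : g * y = y * g := by
  obtain ⟨u, t, hut, hc, hu, ht, ⟨k, hk⟩, htp⟩ := Blocks.RegularCount.exists_pPart (p := p) g
  have huN : u ∈ Subgroup.normalizer ((P : Subgroup G) : Set G) :=
    (Subgroup.zpowers_le.2 hg) hu
  have htN : t ∈ Subgroup.normalizer ((P : Subgroup G) : Set G) :=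
    (Subgroup.zpowers_le.2 hg) ht
  have htx : t * x = x * t := by
    obtain ⟨m, hm⟩ := Subgroup.mem_zpowers_iff.1 ht
    rw [← hm]
    exact (Commute.zpow_left (show Commute g x from hgx) m).eq
  have huP : u ∈ P := by
    have h1 : IsPGroup p (Subgroup.zpowers u) := (show PEl p u from ⟨k, hk⟩).isPGroup
    have h2 : Subgroup.zpowers u ≤ Subgroup.normalizer ((P : Subgroup G) : Set G) :=
      Subgroup.zpowers_le.2 huN
    have h3 : IsPGroup p (Subgroup.zpowers u ⊔ (P : Subgroup G) : Subgroup G) :=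
      h1.to_sup_of_normal_right' P.isPGroup' h2
    have h4 := P.3 h3 le_sup_right
    have h5 : u ∈ (Subgroup.zpowers u ⊔ (P : Subgroup G) : Subgroup G) :=
      (le_sup_left : Subgroup.zpowers u ≤ _) (Subgroup.mem_zpowers u)
    rw [h4] at h5
    exact h5
  have hty : t * y = y * t := by
    refine hN.commute (PEl.of_mem P.isPGroup' hx) hx1 P.isPGroup'
      (fun a ha => hcomm a ha x hx) htx htp ?_ hy
    intro a ha
    exact (Subgroup.mem_normalizer_iff.1 htN a).1 ha
  rw [← hut, mul_assoc, hty, ← mul_assoc, hcomm u huP y hy, mul_assoc]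

theorem hsr : ∀ z ∈ (P : Subgroup G), z ≠ 1 →
    Subgroup.centralizer ({z} : Set G) ⊓ Subgroup.normalizer ((P : Subgroup G) : Set G) =
      Subgroup.centralizer ((P : Subgroup G) : Set G) := by
  intro z hz hz1
  apply le_antisymm
  · rintro g ⟨hg1, hg2⟩
    rw [Subgroup.mem_centralizer_iff]
    intro y hy
    exact (reg hN P hcomm hg2 hz hz1 (Subgroup.mem_centralizer_singleton_iff.1 hg1) hy).symm
  · intro g hg
    refine ⟨?_, ?_⟩
    · show g ∈ Subgroup.centralizer ({z} : Set G)
      rw [Subgroup.mem_centralizer_singleton_iff]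
      exact (Subgroup.mem_centralizer_iff.1 hg z hz).symm
    · exact Subgroup.centralizer_le_normalizer _ hg

/-- The order of `N(P) / C(P)` is the length of every orbit. -/
theorem orbit_ncard {x : G} (hx : x ∈ P) (hx1 : x ≠ 1) :
    {y : G | ∃ g ∈ Subgroup.normalizer ((P : Subgroup G) : Set G), g * x * g⁻¹ = y}.ncard =
      (Subgroup.centralizer ((P : Subgroup G) : Set G)).relIndex
        (Subgroup.normalizer ((P : Subgroup G) : Set G)) := by
  set N := Subgroup.normalizer ((P : Subgroup G) : Set G) with hNd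
  let _ : MulAction N G := MulAction.compHom G ((MulAut.conj : G →* MulAut G).comp N.subtype)
  have hsmul : ∀ (g : N) (y : G), g • y = g * y * (g : G)⁻¹ := fun g y => rfl
  have h1 : MulAction.orbit N x = {y : G | ∃ g ∈ N, g * x * g⁻¹ = y} := by
    ext y
    constructor
    · rintro ⟨g, hg⟩
      exact ⟨g, g.2, hg⟩
    · rintro ⟨g, hg, hgy⟩
      exact ⟨⟨g, hg⟩, hgy⟩
  have h2 : MulAction.stabilizer N x =
      (Subgroup.centralizer ((P : Subgroup G) : Set G)).subgroupOf N := by
    ext g
    rw [MulAction.mem_stabilizer_iff, hsmul, Subgroup.mem_subgroupOf, Subgroup.mem_centralizer_iff]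
    constructor
    · intro hg y hy
      refine (reg hN P hcomm g.2 hx hx1 ?_ hy).symm
      rw [mul_inv_eq_iff_eq_mul] at hg
      exact hg
    · intro hg
      rw [mul_inv_eq_iff_eq_mul]
      exact (hg x hx).symm
  rw [← h1, ← MulAction.index_stabilizer, h2]
  rfl

omit hN in
/-- Burnside. -/
theorem burnside {x y : G} (hx : x ∈ P) (hy : y ∈ P) (hxy : IsConj x y) :
    ∃ g ∈ Subgroup.normalizer ((P : Subgroup G) : Set G), g * x * g⁻¹ = y := by
  obtain ⟨c, hc⟩ := isConj_iff.1 hxy
  have : IsMulCommutative (P : Subgroup G) :=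
    ⟨⟨fun a b => Subtype.ext (hcomm a a.2 b b.2)⟩⟩
  obtain ⟨g, hg, hg1⟩ := P.conj_eq_normalizer_conj_of_mem x c⁻¹ hx (by
    rw [inv_inv, hc]; exact hy)
  refine ⟨g⁻¹, Subgroup.inv_mem _ hg, ?_⟩
  rw [inv_inv, ← hg1, inv_inv, hc]

/-- The elements of `P` conjugate to `x`. -/
theorem ncard_isConj {x : G} (hx : x ∈ P) (hx1 : x ≠ 1) :
    {y : G | y ∈ P ∧ IsConj x y}.ncard =
      (Subgroup.centralizer ((P : Subgroup G) : Set G)).relIndex
        (Subgroup.normalizer ((P : Subgroup G) : Set G)) := by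
  rw [← orbit_ncard hN P hcomm hx hx1]
  congr 1
  ext y
  constructor
  · rintro ⟨hy, hxy⟩
    exact burnside P hcomm hx hy hxy
  · rintro ⟨g, hg, rfl⟩
    exact ⟨(Subgroup.mem_normalizer_iff.1 hg x).1 hx, isConj_iff.2 ⟨g, rfl⟩⟩

end free

end Cfsg.Agent.H634.TwoA
end

-- part: H61/K6/Base
section
set_option linter.all false
open scoped Cfsg.Agent.FastGrp

/-!
# S4876 (`k(B₀) = 6`): the interface for the rows (helper61)

`p` is any prime; `X` is the group of the row (`X : Type` or `X : Type u`), `K` a normal subgroup of `G` isomorphic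
to `X`, `C_G(K) = 1`, `p ∤ |G : K|` (`Sit p M G K X`).

* `KGe p n X`  : in every such situation `n ≤ k(B₀(G))`;  `KRow p X = KGe p 7 X`;
* `WtGe p x n` : in every such situation `n ≤ l(B₀(C_G(f x)))`, `f : X ≃* K`  (`x : X` a `p`-element);
  - `wtGe_one` : `WtGe p x 1`;
  - `wtGe_two` : `WtGe p x 2` if `C_X(x)` has no normal `p`-complement;
  - `wt p x` is 2 or 1 accordingly, `wtGe_wt`;
* **CRITERION W** `KGe.of_weights` : `p`-elements (the element `1` is allowed and is worth `l(B₀(G))`) pairwise not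
  conjugate under `Aut X`, with total weight at least `n`;  `KRow.of_weights`, `KRow.of_wt`, `KRow.of_wt_card` :
  nontrivial `p`-elements of total weight at least 5.
-/

set_option autoImplicit false

open Cfsg

namespace Cfsg.Agent.H61.K6

open Cfsg.Agent.H634

/-- nontrivial `p`-element -/
def El (p : ℕ) {X : Type*} [Group X] (x : X) : Prop := (∃ k : ℕ, orderOf x = p ^ k) ∧ x ≠ 1

/-- The situation after the reduction: `K` is a normal subgroup isomorphic to `X`, of index prime to `p`, with trivial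
centralizer. -/
structure Sit (p : ℕ) (M : Ideal AlgInt) (G : Type*) [Group G] [Finite G] (K : Subgroup G)
    (X : Type*) [Group X] : Prop where
  modular : IsPModular p M
  normal : K.Normal
  iso : Nonempty (X ≃* K)
  cent : Subgroup.centralizer (K : Set G) = ⊥
  ndvd : ¬ p ∣ K.index

theorem Sit.prime {p : ℕ} {M : Ideal AlgInt} {G : Type*} [Group G] [Finite G] {K : Subgroup G}
    {X : Type*} [Group X] (h : Sit p M G K X) : p.Prime := h.modular.1

theorem Sit.congr {p : ℕ} {M : Ideal AlgInt} {G : Type*} [Group G] [Finite G] {K : Subgroup G}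
    {X Y : Type*} [Group X] [Group Y] (e : X ≃* Y) (h : Sit p M G K X) : Sit p M G K Y :=
  ⟨h.modular, h.normal, ⟨e.symm.trans h.iso.some⟩, h.cent, h.ndvd⟩

/-- `k(B₀(G)) ≥ n` in every situation over `X`. -/
def KGe.{u, v} (p n : ℕ) (X : Type v) [Group X] : Prop :=
  ∀ (M : Ideal AlgInt) (G : Type u) [Group G] [Finite G] (K : Subgroup G), Sit p M G K X →
    n ≤ Nat.card (principalBlock M G)

/-- **Type of a row**: `k(B₀(G)) ≥ 7` in every situation over `X`. -/
def KRow.{u, v} (p : ℕ) (X : Type v) [Group X] : Prop := KGe.{u, v} p 7 X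

/-- The weight of the `p`-element `x` is at least `n`. -/
def WtGe.{u, v} (p : ℕ) {X : Type v} [Group X] (x : X) (n : ℕ) : Prop :=
  ∀ (M : Ideal AlgInt) (G : Type u) [Group G] [Finite G] (K : Subgroup G) (f : X ≃* K), Sit p M G K X →
    n ≤ blockRank p (principalBlock M ↥(Subgroup.centralizer ({((f x : K) : G)} : Set G)))

universe u v w

theorem KGe.mono {p m n : ℕ} {X : Type v} [Group X] (h : KGe.{u, v} p n X) (hmn : m ≤ n) : KGe.{u, v} p m X :=
  fun M G _ _ K hS => hmn.trans (h M G K hS)

theorem KGe.congr {p n : ℕ} {X : Type v} {Y : Type w} [Group X] [Group Y] (e : X ≃* Y) (h : KGe.{u, v} p n X) :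
    KGe.{u, w} p n Y :=
  fun M G _ _ K hS => h M G K (hS.congr e.symm)

theorem KRow.congr {p : ℕ} {X : Type v} {Y : Type w} [Group X] [Group Y] (e : X ≃* Y) (h : KRow.{u, v} p X) :
    KRow.{u, w} p Y := KGe.congr e h

theorem WtGe.mono {p m n : ℕ} {X : Type v} [Group X] {x : X} (h : WtGe.{u, v} p x n) (hmn : m ≤ n) :
    WtGe.{u, v} p x m :=
  fun M G _ _ K f hS => hmn.trans (h M G K f hS)

/-- Transport along an isomorphism; in particular weights are invariant under automorphisms. -/
theorem WtGe.congr {p n : ℕ} {X : Type v} {Y : Type w} [Group X] [Group Y] (e : X ≃* Y) {x : X}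
    (h : WtGe.{u, v} p x n) : WtGe.{u, w} p (e x) n := by
  intro M G _ _ K f hS
  have := h M G K (e.trans f) (hS.congr e.symm)
  exact this

theorem wtGe_one {p : ℕ} {X : Type v} [Group X] (x : X) : WtGe.{u, v} p x 1 := by
  intro M G _ _ K f hS
  have : Fact p.Prime := ⟨hS.prime⟩
  have := Fintype.ofFinite ↥(Subgroup.centralizer ({((f x : K) : G)} : Set G))
  exact Cols.blockRank_pos hS.modular

/-- a group without a normal `p`-complement has `l(B₀) ≥ 2` -/
theorem two_le_rank {p : ℕ} {M : Ideal AlgInt} {G : Type*} [Group G] [Finite G] (hM : IsPModular p M)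
    (h : ¬ HasNormalPComplement p G) : 2 ≤ blockRank p (principalBlock M G) := by
  have : Fact p.Prime := ⟨hM.1⟩
  have := Fintype.ofFinite G
  have h1 := Cols.blockRank_pos (G := G) hM
  by_contra hcon
  exact h (S4646.compl_of_rank_one hM (by omega))

theorem wtGe_two {p : ℕ} {X : Type v} [Group X] {x : X}
    (hx : ¬ HasNormalPComplement p ↥(Subgroup.centralizer ({x} : Set X))) : WtGe.{u, v} p x 2 := by
  intro M G _ _ K f hS
  have : Fact p.Prime := ⟨hS.prime⟩
  have : Finite X := Finite.of_equiv _ f.symm.toEquiv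
  refine two_le_rank hS.modular fun h => hx ?_
  let g : ↥(Subgroup.centralizer ({x} : Set X)) →* ↥(Subgroup.centralizer ({((f x : K) : G)} : Set G)) :=
    { toFun := fun c => ⟨((f c : K) : G), by
        rw [Subgroup.mem_centralizer_singleton_iff]
        have h1 := Subgroup.mem_centralizer_singleton_iff.1 c.2
        have h2 := congrArg (fun y => ((f y : K) : G)) h1
        simpa using h2⟩
      map_one' := by
        apply Subtype.ext
        simp
      map_mul' := by
        intro a b
        apply Subtype.ext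
        simp }
  exact ZJ.hasNormalPComplement_of_injective g (fun a b hab => by
    apply Subtype.ext
    have h3 : (g a : G) = (g b : G) := congrArg Subtype.val hab
    exact f.injective (Subtype.ext h3)) h

/-- `l(B₀(G)) ≥ 2` -/
theorem wtGe_one_two {p : ℕ} {X : Type v} [Group X] [Finite X] (hX : ¬ HasNormalPComplement p X) :
    WtGe.{u, v} p (1 : X) 2 := by
  intro M G i1 i2 K f hS
  have : Fact p.Prime := ⟨hS.prime⟩
  refine wtGe_two (fun h => hX ?_) M G K f hS
  let g : X →* ↥(Subgroup.centralizer ({(1 : X)} : Set X)) :=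
    { toFun := fun c => ⟨c, by rw [Subgroup.mem_centralizer_singleton_iff, mul_one, one_mul]⟩
      map_one' := rfl
      map_mul' := fun _ _ => rfl }
  exact ZJ.hasNormalPComplement_of_injective g (fun a b hab => congrArg Subtype.val hab) h

open Classical in
/-- The weight of a `p`-element, computed in `X`. -/
noncomputable def wt (p : ℕ) {X : Type*} [Group X] (x : X) : ℕ :=
  if HasNormalPComplement p ↥(Subgroup.centralizer ({x} : Set X)) then 1 else 2

theorem one_le_wt {p : ℕ} {X : Type*} [Group X] (x : X) : 1 ≤ wt p x := by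
  unfold wt
  split_ifs <;> norm_num

theorem wt_eq_two {p : ℕ} {X : Type*} [Group X] {x : X}
    (h : ¬ HasNormalPComplement p ↥(Subgroup.centralizer ({x} : Set X))) : wt p x = 2 := if_neg h

theorem wtGe_wt {p : ℕ} {X : Type v} [Group X] (x : X) : WtGe.{u, v} p x (wt p x) := by
  unfold wt
  split_ifs with h
  · exact wtGe_one x
  · exact wtGe_two h

/-- Conjugation by an element of `G` is an automorphism of `X`. -/
theorem exists_aut {G : Type*} [Group G] {K : Subgroup G} (hK : K.Normal) {X : Type*} [Group X] (f : X ≃* K)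
    {x y : X} (h : IsConj ((f x : K) : G) ((f y : K) : G)) : ∃ σ : X ≃* X, σ x = y := by
  obtain ⟨g, hg⟩ := isConj_iff.1 h
  refine ⟨(f.trans (MulAut.conjNormal g : MulAut K)).trans f.symm, ?_⟩
  have h1 : (MulAut.conjNormal g : MulAut K) (f x) = f y := Subtype.ext hg
  change f.symm ((MulAut.conjNormal g : MulAut K) (f x)) = y
  rw [h1, f.symm_apply_apply]

/-- **CRITERION W.** `p`-elements of `X`, pairwise not conjugate under `Aut X`, of total weight at least `n`
(the element `1` is allowed). -/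
theorem KGe.of_weights {p n : ℕ} {X : Type v} [Group X] (T : Finset X)
    (hT : ∀ x ∈ T, ∃ k : ℕ, orderOf x = p ^ k)
    (hinj : ∀ x ∈ T, ∀ y ∈ T, ∀ σ : X ≃* X, σ x = y → x = y) (wt : X → ℕ)
    (hw : ∀ x ∈ T, WtGe.{u, v} p x (wt x)) (hn : n ≤ ∑ x ∈ T, wt x) : KGe.{u, v} p n X := by
  classical
  intro M G _ _ K hS
  have : Fact p.Prime := ⟨hS.prime⟩
  obtain ⟨f⟩ := hS.iso
  have hfi : Function.Injective fun x : X => ((f x : K) : G) := fun a b h => f.injective (Subtype.ext h)
  have h1 := TwoA.sum_rank_le hS.modular (T.image fun x : X => ((f x : K) : G))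
    (by
      intro y hy
      obtain ⟨x, hx, rfl⟩ := Finset.mem_image.1 hy
      obtain ⟨k, hk⟩ := hT x hx
      exact ⟨k, by rw [Subgroup.orderOf_coe, MulEquiv.orderOf_eq, hk]⟩)
    (by
      intro y hy y' hy' h
      obtain ⟨x, hx, rfl⟩ := Finset.mem_image.1 hy
      obtain ⟨x', hx', rfl⟩ := Finset.mem_image.1 hy'
      obtain ⟨σ, hσ⟩ := exists_aut hS.normal f h
      rw [hinj x hx x' hx' σ hσ])
  rw [Finset.sum_image fun a _ b _ h => hfi h] at h1
  exact hn.trans ((Finset.sum_le_sum fun x hx => hw x hx M G K f hS).trans h1)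

/-- Criterion W for nontrivial `p`-elements. -/
theorem KGe.of_weights' {p n m : ℕ} {X : Type v} [Group X] [Finite X] (T : Finset X) (hT : ∀ x ∈ T, El p x)
    (hinj : ∀ x ∈ T, ∀ y ∈ T, ∀ σ : X ≃* X, σ x = y → x = y) (wt : X → ℕ)
    (hw : ∀ x ∈ T, WtGe.{u, v} p x (wt x)) (h1 : WtGe.{u, v} p (1 : X) m) (hn : n ≤ m + ∑ x ∈ T, wt x) :
    KGe.{u, v} p n X := by
  classical
  have h1T : (1 : X) ∉ T := fun h => (hT 1 h).2 rfl
  refine KGe.of_weights (insert 1 T) ?_ ?_ (fun x => if x = 1 then m else wt x) ?_ ?_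
  · intro x hx
    rcases Finset.mem_insert.1 hx with rfl | hx
    · exact ⟨0, by simp⟩
    · exact (hT x hx).1
  · intro x hx y hy σ hσ
    rcases Finset.mem_insert.1 hx with rfl | hx
    · rw [← hσ, map_one]
    rcases Finset.mem_insert.1 hy with rfl | hy
    · exact (map_eq_one_iff σ σ.injective).1 hσ
    · exact hinj x hx y hy σ hσ
  · intro x hx
    rcases Finset.mem_insert.1 hx with rfl | hx
    · simpa using h1
    · simpa [(hT x hx).2] using hw x hx
  · rw [Finset.sum_insert h1T, if_pos rfl]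
    refine hn.trans (Nat.add_le_add_left (le_of_eq ?_) _)
    exact Finset.sum_congr rfl fun x hx => (if_neg (hT x hx).2).symm

/-- **CRITERION W for a row**: total weight at least 5. -/
theorem KRow.of_weights {p : ℕ} {X : Type v} [Group X] [Finite X] (hX : ¬ HasNormalPComplement p X)
    (T : Finset X) (hT : ∀ x ∈ T, El p x)
    (hinj : ∀ x ∈ T, ∀ y ∈ T, ∀ σ : X ≃* X, σ x = y → x = y) (wt : X → ℕ)
    (hw : ∀ x ∈ T, WtGe.{u, v} p x (wt x)) (hn : 5 ≤ ∑ x ∈ T, wt x) : KRow.{u, v} p X :=
  KGe.of_weights' T hT hinj wt hw (wtGe_one_two hX) (by omega)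

/-- Criterion W with the weights 1 and 2 computed in `X`. -/
theorem KRow.of_wt {p : ℕ} {X : Type v} [Group X] [Finite X] (hX : ¬ HasNormalPComplement p X)
    (T : Finset X) (hT : ∀ x ∈ T, El p x)
    (hinj : ∀ x ∈ T, ∀ y ∈ T, ∀ σ : X ≃* X, σ x = y → x = y) (hn : 5 ≤ ∑ x ∈ T, wt p x) :
    KRow.{u, v} p X :=
  KRow.of_weights hX T hT hinj (wt p) (fun x _ => wtGe_wt x) hn

theorem card_centralizer_aut {X : Type*} [Group X] (σ : X ≃* X) (x : X) :
    Nat.card ↥(Subgroup.centralizer ({σ x} : Set X)) = Nat.card ↥(Subgroup.centralizer ({x} : Set X)) := by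
  refine Nat.card_congr
    { toFun := fun c => ⟨σ.symm c, ?_⟩
      invFun := fun c => ⟨σ c, ?_⟩
      left_inv := fun c => Subtype.ext (σ.apply_symm_apply _)
      right_inv := fun c => Subtype.ext (σ.symm_apply_apply _) }
  · rw [Subgroup.mem_centralizer_singleton_iff]
    apply σ.injective
    rw [map_mul, map_mul, σ.apply_symm_apply]
    exact Subgroup.mem_centralizer_singleton_iff.1 c.2
  · rw [Subgroup.mem_centralizer_singleton_iff, ← map_mul, ← map_mul,
      Subgroup.mem_centralizer_singleton_iff.1 c.2]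

/-- Elements told apart by their orders and the orders of their centralizers. -/
theorem KRow.of_wt_card {p : ℕ} {X : Type v} [Group X] [Finite X] (hX : ¬ HasNormalPComplement p X)
    (T : Finset X) (hT : ∀ x ∈ T, El p x)
    (hinj : ∀ x ∈ T, ∀ y ∈ T, orderOf x = orderOf y → Nat.card ↥(Subgroup.centralizer ({x} : Set X)) =
      Nat.card ↥(Subgroup.centralizer ({y} : Set X)) → x = y) (hn : 5 ≤ ∑ x ∈ T, wt p x) :
    KRow.{u, v} p X :=
  KRow.of_wt hX T hT (fun x hx y hy σ hσ => by
    refine hinj x hx y hy ?_ ?_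
    · rw [← hσ, MulEquiv.orderOf_eq]
    · rw [← hσ, card_centralizer_aut]) hn

/-- A nonabelian simple group of order divisible by `p` has no normal `p`-complement. -/
theorem not_compl_of_simple {p : ℕ} [hp : Fact p.Prime] {X : Type*} [Group X] [Finite X] [hs : IsSimpleGroup X]
    (hna : ∃ a b : X, a * b ≠ b * a) (hd : p ∣ Nat.card X) : ¬ HasNormalPComplement p X := by
  rintro ⟨P, N, hN, hc⟩
  have hP1 : (P : Subgroup X) ≠ ⊥ := by
    intro h
    have h1 := P.not_dvd_index
    rw [h, Subgroup.index_bot] at h1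
    exact h1 hd
  rcases hs.eq_bot_or_eq_top_of_normal N hN with h | h
  · have h1 : (P : Subgroup X) = ⊤ := by
      have := hc.sup_eq_top
      rwa [h, bot_sup_eq] at this
    have hPG : IsPGroup p X := by
      have h2 := P.isPGroup'
      rw [h1] at h2
      exact h2.of_equiv Subgroup.topEquiv
    have hX : Nontrivial X := hs.toNontrivial
    have hcen := hPG.center_nontrivial
    rcases hs.eq_bot_or_eq_top_of_normal (Subgroup.center X) inferInstance with h2 | h2
    · rw [h2] at hcen
      exact absurd hcen (by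
        intro h3
        exact not_subsingleton _ (inferInstance : Subsingleton (⊥ : Subgroup X)))
    · obtain ⟨a, b, hab⟩ := hna
      apply hab
      have : b ∈ Subgroup.center X := by rw [h2]; trivial
      exact Subgroup.mem_center_iff.1 this a
  · rw [h] at hc
    exact hP1 (Subgroup.isComplement'_top_left.1 hc)

end Cfsg.Agent.H61.K6
end

-- part: H61/K6/CritD
section
set_option linter.all false
open scoped Cfsg.Agent.FastGrp

/-!
# S4876: criterion D (helper61)

`KGe.of_chars` : `n` members of `B₀(X)`, pairwise not conjugate under `Aut X`;  `KGe.of_degrees` : of different degrees.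
-/

set_option autoImplicit false

open Cfsg

namespace Cfsg.Agent.H61.K6

open scoped ComplexConjugate

universe u v

/-- transport of an irreducible character along an isomorphism -/
def tw {X Y : Type*} [Group X] [Group Y] (e : Y ≃* X) (χ : IrrCharacter X) : IrrCharacter Y :=
  ⟨fun y => (χ : X → ℂ) (e y), Characters.Core.isIrr_comp e.toMonoidHom e.surjective χ.2⟩

theorem tw_apply {X Y : Type*} [Group X] [Group Y] (e : Y ≃* X) (χ : IrrCharacter X) (y : Y) :
    (tw e χ : Y → ℂ) y = (χ : X → ℂ) (e y) := rfl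

theorem tw_mem {X Y : Type*} [Group X] [Group Y] {M : Ideal AlgInt} (e : Y ≃* X) {χ : IrrCharacter X}
    (hχ : χ ∈ principalBlock M X) : tw e χ ∈ principalBlock M Y := by
  have hidx : ∀ y : Y, (Subgroup.centralizer ({y} : Set Y)).index =
      (Subgroup.centralizer ({e y} : Set X)).index := by
    intro y
    rw [← Subgroup.index_comap_of_surjective _ e.surjective (f := e.toMonoidHom)]
    congr 1
    ext z
    rw [Subgroup.mem_comap, Subgroup.mem_centralizer_singleton_iff,
      Subgroup.mem_centralizer_singleton_iff]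
    change _ ↔ e z * e y = e y * e z
    rw [← map_mul, ← map_mul]
    exact e.injective.eq_iff.symm
  intro y
  have h1 := hχ (e y)
  have h2 : centralChar (fun _ : Y => (1 : ℂ)) y = centralChar (fun _ : X => (1 : ℂ)) (e y) := by
    rw [Blocks.Basic.centralChar_def, Blocks.Basic.centralChar_def, hidx]
  have h3 : centralChar (tw e χ : Y → ℂ) y = centralChar (χ : X → ℂ) (e y) := by
    rw [Blocks.Basic.centralChar_def, Blocks.Basic.centralChar_def, hidx, tw_apply, tw_apply, map_one]
  rw [h2, h3]
  exact h1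

/-- **CRITERION D.** `n` members of the principal block of `X`, pairwise not conjugate under `Aut X`. -/
theorem KGe.of_chars {p n : ℕ} {X : Type v} [Group X] [Finite X]
    (h : ∀ M : Ideal AlgInt, IsPModular p M → ∃ T : Finset (IrrCharacter X), n ≤ T.card ∧
      (∀ χ ∈ T, χ ∈ principalBlock M X) ∧
      ∀ χ ∈ T, ∀ ψ ∈ T, ∀ σ : X ≃* X, (∀ x, (ψ : X → ℂ) x = (χ : X → ℂ) (σ x)) → χ = ψ) :
    KGe.{u, v} p n X := by
  classical
  intro M G _ _ K hS
  have : Fact p.Prime := ⟨hS.prime⟩
  have := hS.normal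
  have := Fintype.ofFinite G
  have := Fintype.ofFinite K
  obtain ⟨f⟩ := hS.iso
  obtain ⟨T, hTn, hTB, hTσ⟩ := h M hS.modular
  obtain ⟨P⟩ : Nonempty (Sylow p G) := inferInstance
  have hPN : (P : Subgroup G) ≤ Subgroup.normalizer (K : Set G) := by
    rw [Subgroup.normalizer_eq_top]
    exact le_top
  have hex : ∀ χ : IrrCharacter X, ∃ Φ : IrrCharacter G, χ ∈ T → Φ ∈ principalBlock M G ∧
      classInner (fun k : K => (Φ : G → ℂ) k) (tw f.symm χ : K → ℂ) ≠ 0 := by
    intro χ
    by_cases hχ : χ ∈ T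
    · obtain ⟨Φ, hΦ, hc⟩ := H656.OverPrincipal.exists_over hS.modular K P hPN (tw f.symm χ)
        (tw_mem f.symm (hTB χ hχ))
      exact ⟨Φ, fun _ => ⟨hΦ, hc⟩⟩
    · exact ⟨⟨fun _ => 1, Blocks.Basic.isIrrCharacter_one⟩, fun h1 => absurd h1 hχ⟩
  choose F hF using hex
  have hinj : ∀ χ ∈ T, ∀ ψ ∈ T, F χ = F ψ → χ = ψ := by
    intro χ hχ ψ hψ he
    have h1 := (hF χ hχ).2
    have h2 := (hF ψ hψ).2
    rw [← he] at h2
    obtain ⟨g, hg⟩ := Characters.Clifford.exists_conj_of_constituents K (F χ).2 (tw f.symm χ).2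
      (tw f.symm ψ).2 h1 h2
    refine hTσ χ hχ ψ hψ ((f.trans (MulAut.conjNormal g : MulAut K)).trans f.symm) fun x => ?_
    have h3 := congrFun hg (f x)
    rw [tw_apply, f.symm_apply_apply, Function.comp_apply, tw_apply] at h3
    exact h3
  have hfin : Finite (IrrCharacter G) := Characters.Core.finite_irr
  calc n ≤ T.card := hTn
    _ = (T.image F).card := (Finset.card_image_of_injOn fun χ hχ ψ hψ he => hinj χ hχ ψ hψ he).symm
    _ ≤ Nat.card (principalBlock M G) := by
      rw [← Set.ncard_coe_finset, ← Nat.card_coe_set_eq]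
      refine Nat.card_mono (Set.toFinite _) ?_
      intro Φ hΦ
      obtain ⟨χ, hχ, rfl⟩ := Finset.mem_image.1 (Finset.mem_coe.1 hΦ)
      exact (hF χ hχ).1

/-- Criterion D with characters of different degrees. -/
theorem KGe.of_degrees {p n : ℕ} {X : Type v} [Group X] [Finite X]
    (h : ∀ M : Ideal AlgInt, IsPModular p M → ∃ D : Finset ℕ, n ≤ D.card ∧
      ∀ d ∈ D, ∃ χ ∈ principalBlock M X, (χ : X → ℂ) 1 = d) : KGe.{u, v} p n X := by
  classical
  refine KGe.of_chars fun M hM => ?_
  obtain ⟨D, hDn, hD⟩ := h M hM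
  have hex : ∀ d : ℕ, ∃ χ : IrrCharacter X, d ∈ D → χ ∈ principalBlock M X ∧ (χ : X → ℂ) 1 = d := by
    intro d
    by_cases hd : d ∈ D
    · obtain ⟨χ, h1, h2⟩ := hD d hd
      exact ⟨χ, fun _ => ⟨h1, h2⟩⟩
    · exact ⟨⟨fun _ => 1, Blocks.Basic.isIrrCharacter_one⟩, fun h1 => absurd h1 hd⟩
  choose F hF using hex
  have hinj : ∀ d ∈ D, ∀ e ∈ D, F d = F e → d = e := by
    intro d hd e he h1
    have h2 := (hF d hd).2
    rw [h1, (hF e he).2] at h2
    exact_mod_cast h2.symm
  refine ⟨D.image F, ?_, ?_, ?_⟩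
  · rw [Finset.card_image_of_injOn fun d hd e he h1 => hinj d hd e he h1]
    exact hDn
  · intro χ hχ
    obtain ⟨d, hd, rfl⟩ := Finset.mem_image.1 hχ
    exact (hF d hd).1
  · intro χ hχ ψ hψ σ hσ
    obtain ⟨d, hd, rfl⟩ := Finset.mem_image.1 hχ
    obtain ⟨e, he, rfl⟩ := Finset.mem_image.1 hψ
    have h1 := hσ 1
    rw [map_one, (hF d hd).2, (hF e he).2] at h1
    have h2 : d = e := by exact_mod_cast h1.symm
    rw [h2]

theorem KRow.of_chars {p : ℕ} {X : Type v} [Group X] [Finite X]
    (h : ∀ M : Ideal AlgInt, IsPModular p M → ∃ T : Finset (IrrCharacter X), 7 ≤ T.card ∧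
      (∀ χ ∈ T, χ ∈ principalBlock M X) ∧
      ∀ χ ∈ T, ∀ ψ ∈ T, ∀ σ : X ≃* X, (∀ x, (ψ : X → ℂ) x = (χ : X → ℂ) (σ x)) → χ = ψ) :
    KRow.{u, v} p X := KGe.of_chars h

theorem KRow.of_degrees {p : ℕ} {X : Type v} [Group X] [Finite X]
    (h : ∀ M : Ideal AlgInt, IsPModular p M → ∃ D : Finset ℕ, 7 ≤ D.card ∧
      ∀ d ∈ D, ∃ χ ∈ principalBlock M X, (χ : X → ℂ) 1 = d) : KRow.{u, v} p X := KGe.of_degrees h

end Cfsg.Agent.H61.K6
end

-- part: H121/K6/Tools
section
set_option linter.all false
open scoped Cfsg.Agent.FastGrp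

/-!
# S4876: tools for the sporadic rows (helper121)

* `eq_one_of_inv` : in a group of odd order an element conjugate to its inverse is trivial;
* `not_compl_of_inv` : a `p`-element (`p` odd) conjugate to its inverse excludes a normal `p`-complement;
* `wtGe_two_of_inv` : weight 2 of `x` if `y`, `n` commute with `x` and `n y n⁻¹ = y⁻¹`, `y` a nontrivial `p`-element.
-/

set_option autoImplicit false

open Cfsg

namespace Cfsg.Agent.H121.K6

open Cfsg.Agent.H61.K6

/-- In a group of odd order an element conjugate to its inverse is trivial. -/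
theorem eq_one_of_inv {Q : Type*} [Group Q] (hQ : Odd (Nat.card Q)) {y n : Q} (h : n * y * n⁻¹ = y⁻¹) : y = 1 := by
  have key : ∀ k : ℕ, n ^ (2 * k) * y * (n ^ (2 * k))⁻¹ = y := by
    intro k
    induction k with
    | zero => simp
    | succ k ih =>
      have h1 : n ^ (2 * (k + 1)) = n * (n * n ^ (2 * k)) := by
        rw [mul_add, mul_one, pow_succ', pow_succ']
      rw [h1]
      calc n * (n * n ^ (2 * k)) * y * (n * (n * n ^ (2 * k)))⁻¹
          = n * (n * (n ^ (2 * k) * y * (n ^ (2 * k))⁻¹) * n⁻¹) * n⁻¹ := by group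
        _ = n * (n * y * n⁻¹) * n⁻¹ := by rw [ih]
        _ = n * y⁻¹ * n⁻¹ := by rw [h]
        _ = (n * y * n⁻¹)⁻¹ := by group
        _ = y := by rw [h, inv_inv]
  obtain ⟨k, hk⟩ := hQ
  have h1 : n ^ (2 * k) = n⁻¹ := by
    have h2 : n ^ (2 * k + 1) = 1 := by rw [← hk]; exact pow_card_eq_one'
    rw [pow_succ] at h2
    exact eq_inv_of_mul_eq_one_left h2
  have h3 := key k
  rw [h1, inv_inv] at h3
  -- n⁻¹ y n = y, so y = y⁻¹
  have h4 : y⁻¹ = y := by
    rw [← h]
    calc n * y * n⁻¹ = n * (n⁻¹ * y * n) * n⁻¹ := by rw [h3]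
      _ = y := by group
  have h5 : y ^ 2 = 1 := by
    rw [pow_two]
    nth_rewrite 1 [← h4]
    exact inv_mul_cancel y
  have h6 := orderOf_dvd_of_pow_eq_one h5
  have h7 : orderOf y ∣ 2 * k + 1 := by rw [← hk]; exact orderOf_dvd_natCard y
  have h8 : orderOf y ∣ 1 := by
    have h9 : orderOf y ∣ 2 * k := h6.mul_right k
    exact (Nat.dvd_add_right h9).1 h7
  rw [← orderOf_eq_one_iff]
  exact Nat.dvd_one.1 h8

theorem not_compl_of_inv {p : ℕ} (hp : p.Prime) (hp2 : p ≠ 2) {C : Type*} [Group C] [Finite C] {y n : C} {k : ℕ}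
    (hy : y ^ p ^ k = 1) (hy1 : y ≠ 1) (h : n * y * n⁻¹ = y⁻¹) : ¬ HasNormalPComplement p C := by
  have : Fact p.Prime := ⟨hp⟩
  rintro ⟨P, N, hN, hc⟩
  have hcard : Nat.card (C ⧸ N) = Nat.card (P : Subgroup C) := by
    rw [← Subgroup.index_eq_card]
    exact hc.symm.index_eq_card
  obtain ⟨m, hm⟩ := IsPGroup.iff_card.1 P.isPGroup'
  have hodd : Odd (Nat.card (C ⧸ N)) := by
    rw [hcard, hm]
    exact (hp.odd_of_ne_two hp2).pow
  have h1 : ((y : C) : C ⧸ N) = 1 := by
    refine eq_one_of_inv hodd (n := ((n : C) : C ⧸ N)) ?_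
    rw [← QuotientGroup.mk_inv, ← QuotientGroup.mk_inv, ← QuotientGroup.mk_mul, ← QuotientGroup.mk_mul, h]
  have h2 : y ∈ N := (QuotientGroup.eq_one_iff y).1 h1
  have h3 : ¬ p ∣ Nat.card N := by
    have h4 := P.not_dvd_index
    have h5 : (P : Subgroup C).index = Nat.card N := hc.index_eq_card
    rwa [h5] at h4
  have h6 : orderOf y ∣ p ^ k := orderOf_dvd_of_pow_eq_one hy
  obtain ⟨j, -, hj⟩ := (Nat.dvd_prime_pow hp).1 h6
  have h7 : orderOf y ∣ Nat.card N := by
    have := orderOf_dvd_natCard (⟨y, h2⟩ : N)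
    rwa [Subgroup.orderOf_mk] at this
  have h8 : j = 0 := by
    by_contra hj0
    apply h3
    refine (dvd_trans ?_ h7)
    rw [hj]
    exact dvd_pow_self p hj0
  rw [h8, pow_zero, orderOf_eq_one_iff] at hj
  exact hy1 hj

/-- weight 2 in `X` -/
theorem wt_eq_two_of_inv {p : ℕ} (hp : p.Prime) (hp2 : p ≠ 2) {X : Type*} [Group X] [Finite X] {x y n : X} {k : ℕ}
    (hyx : y * x = x * y) (hnx : n * x = x * n) (hy : y ^ p ^ k = 1) (hy1 : y ≠ 1) (h : n * y * n⁻¹ = y⁻¹) :
    wt p x = 2 := by
  refine wt_eq_two ?_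
  refine not_compl_of_inv hp hp2 (k := k)
    (y := (⟨y, Subgroup.mem_centralizer_singleton_iff.2 hyx⟩ : ↥(Subgroup.centralizer ({x} : Set X))))
    (n := (⟨n, Subgroup.mem_centralizer_singleton_iff.2 hnx⟩ : ↥(Subgroup.centralizer ({x} : Set X)))) ?_ ?_ ?_
  · apply Subtype.ext
    simpa using hy
  · intro h1
    exact hy1 (congrArg Subtype.val h1)
  · apply Subtype.ext
    simpa using h

end Cfsg.Agent.H121.K6
end
end
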